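import Mathlib
import Cfsg.Agent.Base
import Cfsg.Agent.Lib.ZJF59.Core
import Cfsg.Agent.Lib.Functor.Ess
import Cfsg.Agent.Lib.ZJ.Abstract
import Cfsg.Agent.S2834

/-!
The characteristic `p` case: a subgroup `W ≤ Z(J(S))` normalized by `N(J(S))` but not normal.
-/

set_option autoImplicit false

namespace H59.ZF

open Subgroup Cfsg H69 H59 H24
open scoped commutatorElement

variable {p : ℕ} {G : Type*} [Group G]

/-- `W` is closed under `L`-fusion into `S`. -/
def SC (L S W : Subgroup G) : Prop := ∀ w ∈ W, ∀ g ∈ L, g * w * g⁻¹ ∈ S → g * w * g⁻¹ ∈ W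

/-- The conclusion: an eigenvector in `W` and the data for `F(p)`, inside `N_L(W)`. -/
def Concl (μ : ZMod p) (L W : Subgroup G) : Prop :=
  (∃ h ∈ L ⊓ 𝐍(W), Eig μ.val h W) ∧ Phi μ (L ⊓ 𝐍(W))

theorem eqns_charp : True := by
  have := @SC.eq_1.{0}
  have := @Concl.eq_1.{0}
  trivial

/-- The hypothesis of the induction. -/
structure Hyp (p : ℕ) (L S W : Subgroup G) : Prop where
  syl : IsSylowIn p S L
  le : W ≤ centerThompsonAOf S
  norm : L ⊓ 𝐍(thompsonSubgroupAOf S) ≤ 𝐍(W)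

namespace Hyp
variable {L S W : Subgroup G} (h : Hyp p L S W)
include h

theorem le_S : W ≤ S := h.le.trans (inf_le_left.trans (thompsonSubgroupAOf_le S))

theorem ab : W ≤ 𝐂(W) :=
  (h.le.trans inf_le_right).trans (H69.centralizer_anti (h.le.trans inf_le_left))

theorem normS : L ⊓ 𝐍(S) ≤ 𝐍(W) :=
  (inf_le_inf_left L (normalizer_le_normalizer_thompsonSubgroupAOf S)).trans h.norm

theorem S_le : S ≤ 𝐍(W) := (le_inf h.syl.le le_normalizer).trans h.normS

theorem mono {X : Subgroup G} (h1 : S ≤ X) (h2 : X ≤ L) : Hyp p X S W :=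
  ⟨h.syl.mono h1 h2, h.le, (inf_le_inf_right _ h2).trans h.norm⟩

theorem fus [Finite G] [Fact p.Prime] (hsc : SC L S W) : Fus 𝐍(W) L S :=
  fus_of_stronglyClosed h.syl h.ab h.le_S hsc

end Hyp

theorem Concl.mono {μ : ZMod p} {L L' W : Subgroup G} (h : Concl μ L W) (hL : L ≤ L') :
    Concl μ L' W :=
  let ⟨⟨g, hg, e⟩, hΦ⟩ := h
  ⟨⟨g, ⟨hL hg.1, hg.2⟩, e⟩, hΦ.mono (inf_le_inf_right _ hL)⟩

theorem Eig.cj {n : ℕ} {h : G} {W : Subgroup G} (he : Eig n h W) (k : G) :
    Eig n (k * h * k⁻¹) (W ^ᶜ k) :=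
  he.map (MulAut.conj k).toMonoidHom (MulAut.conj k).injective

theorem Concl.cj {μ : ZMod p} {L W : Subgroup G} (h : Concl μ L W) (k : G) :
    Concl μ (L ^ᶜ k) (W ^ᶜ k) := by
  obtain ⟨⟨g, hg, e⟩, hΦ⟩ := h
  refine ⟨⟨k * g * k⁻¹, ?_, e.cj k⟩, ?_⟩
  · rw [← cj_normalizer, ← cj_inf]
    exact cj_mem k hg
  · rw [← cj_normalizer, ← cj_inf]
    exact hΦ.cj k

variable [Finite G] [hp : Fact p.Prime]

theorem not_normal_inf {S W : Subgroup G} (h : Hyp p ⊤ S W) (hc : 𝐂(pCore p G) ≤ pCore p G)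
    (hW : ¬ W.Normal) : ¬ (W ⊓ pCore p G).Normal := by
  intro hn
  have hES := pCore_le_of_sylow h.syl
  have h1 : ⁅normalClosure (W : Set G), pCore p G⁆ ≤ W ⊓ pCore p G :=
    H25.ZJ.commutator_normalClosure_le (le_inf
      (H69.commutator_le_left_of_le_normalizer (hES.trans h.S_le)) (commutator_le_right _ _))
  have h2 : normalClosure (W : Set G) ≤ 𝐂(W ⊓ pCore p G) :=
    normalClosure_le_normal (h.ab.trans (H69.centralizer_anti inf_le_left))
  have h3 : IsPGroup p (normalClosure (W : Set G)) := by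
    refine isPGroup_of_res_le (H1.isPGroup_pCore (p := p) (G := G)) (res_le_iff.2 fun g hg hcop => hc ?_)
    exact mem_centralizer_of_coprime ((H1.isPGroup_pCore (p := p) (G := G)).to_le inf_le_right) hcop (h2 hg)
      fun u hu => h1 (commutator_mem_commutator hg hu)
  have h4 : W ≤ pCore p G := le_normalClosure.trans (H1.le_pCore h3)
  rw [inf_eq_left.2 h4] at hn
  exact hW hn

theorem exists_quadratic (hp2 : p ≠ 2) {S W : Subgroup G} (h : Hyp p ⊤ S W)
    (hc : 𝐂(pCore p G) ≤ pCore p G) (hW : ¬ W.Normal) :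
    ∃ B : Subgroup G, B.Normal ∧ B ≤ pCore p G ∧ ¬ (W ⊓ B).Normal ∧
      ∃ A ∈ maxAb S, ¬ A ≤ pCore p G ∧ ⁅⁅B, A⁆, A⁆ = ⊥ := by
  have hES := pCore_le_of_sylow h.syl
  obtain ⟨B, ⟨hBn, hBE, hB⟩, hmin⟩ := exists_minimal_of_wellFoundedLT
    (fun B : Subgroup G => B.Normal ∧ B ≤ pCore p G ∧ ¬ (W ⊓ B).Normal)
    ⟨pCore p G, inferInstance, le_rfl, not_normal_inf h hc hW⟩
  have hBp : IsPGroup p B := (H1.isPGroup_pCore (p := p) (G := G)).to_le hBE
  have hncl : normalClosure ((W ⊓ B : Subgroup G) : Set G) = B := by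
    have h1 : normalClosure ((W ⊓ B : Subgroup G) : Set G) ≤ B :=
      normalClosure_le_normal (inf_le_right : W ⊓ B ≤ B)
    refine le_antisymm h1 (hmin ⟨inferInstance, h1.trans hBE, ?_⟩ h1)
    rwa [le_antisymm (inf_le_inf_left W h1) (le_inf inf_le_left le_normalClosure)]
  have hB0 : B ≠ ⊥ := by
    rintro rfl
    exact hB (by rw [inf_bot_eq]; infer_instance)
  have hlt := H25.ZJ.commutator_lt_of_isPGroup hBp hB0
  have hn' : (W ⊓ ⁅B, B⁆).Normal := by
    by_contra hn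
    exact hlt.not_ge (hmin ⟨inferInstance, hlt.le.trans hBE, hn⟩ hlt.le)
  have hBW : ⁅B, B⁆ ≤ W := by
    have h1 : ⁅normalClosure ((W ⊓ B : Subgroup G) : Set G), B⁆ ≤ W ⊓ ⁅B, B⁆ :=
      H25.ZJ.commutator_normalClosure_le (le_inf ((commutator_mono inf_le_left le_rfl).trans
        (H69.commutator_le_left_of_le_normalizer ((hBE.trans hES).trans h.S_le)))
        (commutator_mono inf_le_right le_rfl))
    rw [hncl] at h1
    exact h1.trans inf_le_left
  have hBA : ∀ A ∈ maxAb S, A ≤ pCore p G → B ≤ A := fun A hA hAE => by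
    have h1 : W ≤ centerThompsonAOf (pCore p G) := by
      rw [← H25.ZJ.sInf_maxAb]
      exact le_sInf fun A' hA' =>
        h.le.trans (centerThompsonAOf_le (maxAb_subset_of_le hA hAE hES hA'))
    haveI : (centerThompsonAOf (pCore p G)).Normal := normal_iff_top_le_normalizer.2
      (le_normalizer_of_normal.trans (H25.ZJ.normalizer_le_normalizer_centerThompsonAOf _))
    rw [← hncl]
    exact (normalClosure_le_normal (inf_le_left.trans h1)).trans
      (centerThompsonAOf_le (mem_maxAb_of_le hA hAE hES))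
  obtain ⟨U, hU, hUE⟩ : ∃ U ∈ maxAb S, ¬ U ≤ pCore p G := by
    by_contra hcon
    push Not at hcon
    apply hW
    rw [normal_iff_top_le_normalizer]
    refine le_trans (le_inf le_rfl ?_) h.norm
    rw [← thompsonSubgroupAOf_eq_of_le (thompsonSubgroupAOf_le_iff.2 hcon) hES]
    haveI := thompsonSubgroupAOf_normal (pCore p G)
    exact le_normalizer_of_normal
  obtain ⟨A, hA, hAE, hAn⟩ : ∃ A ∈ maxAb S, ¬ A ≤ pCore p G ∧ B ≤ 𝐍(A) := by
    by_cases hBU : B ≤ U
    · exact ⟨U, hU, hUE, hBU.trans le_normalizer⟩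
    · obtain ⟨A, hA, -, h1, h2⟩ := H25.ZJ.replacement_maxAb h.syl.isP le_rfl le_normalizer
        (hBE.trans hES) le_normalizer_of_normal (fun e => absurd e hp2)
        ⟨U, hU, hBW.trans (h.le.trans (centerThompsonAOf_le hU)), hBU⟩
      exact ⟨A, hA, fun e => h1 (hBA A hA e), h2⟩
  refine ⟨B, hBn, hBE, hB, A, hA, hAE, commutator_eq_bot_of_le_centralizer
    ((H69.commutator_le_right_of_le_normalizer hAn).trans fun a ha => ?_)⟩
  exact mem_centralizer_iff_commute.2 fun b hb => isMulCommutative_iff_mem.1 hA.2.1 b hb a ha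

theorem concl_of_charP (hp2 : p ≠ 2) {μ : ZMod p} (h0 : μ ≠ 0) {S W : Subgroup G}
    (h : Hyp p ⊤ S W) (hc : 𝐂(pCore p G) ≤ pCore p G)
    (hM : ∀ X, S ≤ X → X ≠ ⊤ → X ≤ 𝐍(W)) (hW : ¬ W.Normal) : Concl μ ⊤ W := by
  obtain ⟨B, hBn, hBE, hB, A, hA, hAE, hq⟩ := exists_quadratic hp2 h hc hW
  have hM0 : 𝐍(W) ≠ ⊤ := fun e => hW (normal_iff_top_le_normalizer.2 e.ge)
  have hco : IsCoatom 𝐍(W) := ⟨hM0, fun X hX => by
    by_contra hne
    exact hX.not_ge (hM X (h.S_le.trans hX.le) hne)⟩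
  obtain ⟨T, rfl⟩ := h.syl.exists_sylow_top
  have hmin : IsMinimalOver (T : Subgroup G) := by
    refine ⟨?_, 𝐍(W), ⟨hco, h.S_le⟩, fun X hX => (hX.1.le_iff_eq hM0).1 (hM X hX.2 hX.1.1) |>.symm⟩
    by_contra hne
    apply hM0
    rw [eq_top_iff, ← (h.syl.mono le_normalClosure le_top).frattini_sup le_top
      le_normalizer_of_normal]
    exact sup_le (hM _ le_normalClosure hne) h.normS
  obtain ⟨L, hAL, L₀, h1, h2, h3, ⟨g, hg⟩, h4⟩ :=
    Cfsg.Agent.S2834.result T hmin 𝐍(W) ⟨hco, h.S_le⟩ A hA.1 hAE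
  change L₀ = L ⊓ 𝐍(W) ^ᶜ g at hg
  have hAL' : A ≤ L := le_sup_left.trans hAL
  have hBL : B ≤ L := hBE.trans (le_sup_right.trans hAL)
  have hL₀ : L₀ ≤ 𝐍(W) ^ᶜ g := hg ▸ inf_le_right
  have hWA : W ^ᶜ g ≤ A := by
    have hAp : IsPGroup p A := h.syl.isP.to_le hA.1
    obtain ⟨m, hm, hmS⟩ := (h.syl.mono h.S_le le_top).exists_cj_le (isPGroup_cj hAp g⁻¹)
      (le_cj_iff.1 ((le_sup_left.trans h1).trans hL₀))
    have h5 : (A ^ᶜ g⁻¹) ^ᶜ m ∈ maxAb (T : Subgroup G) := by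
      refine mem_maxAb_of_card_le hA hmS ?_ (by rw [card_cj, card_cj])
      rw [isMulCommutative_map_iff (MulAut.conj m).injective,
        isMulCommutative_map_iff (MulAut.conj g⁻¹).injective]
      exact hA.2.1
    have h6 := h.le.trans (centerThompsonAOf_le h5)
    rwa [← cj_eq_of_mem_normalizer hm, cj_le_cj_iff, ← cj_le_iff] at h6
  have hNY : 𝐍(W ⊓ B) = 𝐍(W) :=
    le_antisymm (hM _ (le_normalizer_inf h.S_le le_normalizer_of_normal)
      fun e => hB (normal_iff_top_le_normalizer.2 e.ge))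
      (le_normalizer_inf le_rfl le_normalizer_of_normal)
  set Y := (W ⊓ B) ^ᶜ g with hYd
  have hNY' : 𝐍(Y) = 𝐍(W) ^ᶜ g := by rw [hYd, ← cj_normalizer, hNY]
  have hYB : Y ≤ B := cj_le_of_mem_normalizer inf_le_right (le_normalizer_of_normal (mem_top g))
  have hYA : Y ≤ A := (cj_mono g inf_le_left).trans hWA
  have hAA : A ≤ 𝐂(A) := fun a ha =>
    mem_centralizer_iff_commute.2 fun b hb => isMulCommutative_iff_mem.1 hA.2.1 b hb a ha
  have mA := map_subgroupOf_eq_of_le hAL'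
  have mB := map_subgroupOf_eq_of_le hBL
  have mY := map_subgroupOf_eq_of_le (hYB.trans hBL)
  have mL := map_subgroupOf_eq_of_le h2.le
  have hD : LData p (A.subgroupOf L) (B.subgroupOf L) (pCore p L) (Y.subgroupOf L)
      (L₀.subgroupOf L) := by
    refine ⟨inferInstance, inferInstance, H1.isPGroup_pCore,
      H1.le_pCore (isPGroup_subgroupOf ((H1.isPGroup_pCore (p := p) (G := G)).to_le hBE) L), ?_,
      comap_mono hYB, ?_, ?_, ?_, fun e => h2.not_ge (subgroupOf_eq_top.1 e), fun X hX hne => ?_,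
      fun x hx => ?_, ?_, fun hn => ?_⟩
    · rw [← map_subtype_eq_bot_iff, map_commutator, map_commutator, mA, mB, hq]
    · rw [← map_subtype_le_iff, map_subtype_centralizer, mA, mY]
      exact le_inf (hYB.trans hBL) (hYA.trans hAA)
    · rw [← map_subtype_le_iff, map_subtype_centralizer, mY]
      exact le_inf (hYB.trans hBL) (hYA.trans (hAA.trans (H69.centralizer_anti hYA)))
    · rw [← map_subtype_le_iff, Subgroup.map_sup, mA, mL]
      exact h1
    · rw [le_subgroupOf_iff]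
      refine h3 _ ?_ (lt_of_le_of_ne (map_subtype_le X) fun e => hne (map_subtype_eq_self_iff.1 e))
      rw [← map_subtype_le_iff, Subgroup.map_sup, mA] at hX
      exact hX
    · rw [← map_subtype_eq_self_iff, Subgroup.map_sup, Subgroup.map_sup, map_subtype_cj, mA]
      exact h4 x x.2 hx
    · rw [← map_subtype_le_iff, map_subtype_normalizer, mY, mL, hNY']
      exact le_inf h2.le hL₀
    · rw [normal_iff_le_normalizer_map, mY, hNY'] at hn
      exact h2.not_ge (hg ▸ le_inf le_rfl hn)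
  obtain ⟨⟨k, hk, he⟩, hΦ⟩ := hD.concl hp2 h0
  have he' := he.map L.subtype L.subtype_injective
  have hΦ' := hΦ.map L.subtype L.subtype_injective
  rw [mY] at he'
  rw [mL] at hΦ'
  have h5 : Concl μ ⊤ (W ^ᶜ g) := by
    refine ⟨⟨k, ⟨trivial, ?_⟩, he'.mono (cj_mono g inf_le_left)⟩, hΦ'.mono (le_inf le_top ?_)⟩
    · rw [← cj_normalizer]
      exact hL₀ hk
    · rwa [← cj_normalizer]
  have h6 := h5.cj g⁻¹
  rwa [cj_cj_inv, cj_top] at h6

end H59.ZF
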