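import Mathlib
import Cfsg.Agent.Base
import Cfsg.Agent.Lib.ZJF59.CharP

/-!
Reduction to `p`-local subgroups.
-/

set_option autoImplicit false

namespace H59.ZF

open Subgroup Cfsg H69 H59 H24
open scoped commutatorElement

variable {p : ℕ} {G : Type*} [Group G] [Finite G] [hp : Fact p.Prime] {μ : ZMod p}

theorem concl_of_sc {K T W W₁ : Subgroup G} (hT : IsSylowIn p T K) (hW : W ≤ 𝐂(W)) (hWT : W ≤ T)
    (hsc : SC K T W) (h1 : W₁ ≤ W) {h : G} (hh : h ∈ K) (he : Eig μ.val h W₁) (hΦ : Phi μ K) :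
    Concl μ K W := by
  have hF := fus_of_stronglyClosed hT hW hWT hsc
  have hTN : T ≤ 𝐍(W) := le_normalizer_of_cj_le fun g hg z hz => by
    obtain ⟨w, hw, rfl⟩ := mem_cj'.1 hz
    exact hsc w hw g (hT.le hg) (mul_mem (mul_mem hg (hWT hw)) (inv_mem hg))
  refine ⟨?_, hΦ.fus hT hTN hF⟩
  obtain ⟨c, hc, hne, e⟩ := he
  obtain ⟨x, hx, ex⟩ := hF (zpowers c) h (zpowers_le.2 (hWT (h1 hc))) hh (by
    rw [cj_zpowers, e]
    exact zpowers_le.2 (pow_mem (hWT (h1 hc)) _))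
  exact ⟨x, hx, c, h1 hc, hne, (ex c (mem_zpowers c)).trans e⟩

/-- `N(U)` does not move `W` inside `S`. -/
def Good (S W U : Subgroup G) : Prop :=
  ∀ w ∈ W, w ∈ 𝐍(U) → ∀ g ∈ 𝐍(U), g * w * g⁻¹ ∈ S → g * w * g⁻¹ ∈ W

theorem eqns_good : True := by
  have := @Good.eq_1.{0}
  trivial

theorem engine {S W : Subgroup G} (h : Hyp p ⊤ S W) {m : ℕ} (hm : 2 ≤ m)
    (hgood : ∀ U ≤ S, U ≠ ⊥ → m < Nat.card (S ⊓ 𝐍(U) : Subgroup G) → Good S W U)
    {R : Subgroup G} {g : G} (hR : R ≤ S) (hg : R ^ᶜ g ≤ S) (hc : m ≤ Nat.card R) :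
    ∀ x ∈ R, (x ∈ W ↔ g * x * g⁻¹ ∈ W) := by
  refine alperin_extr h.syl (fun P g => m ≤ Nat.card P → ∀ x ∈ P, (x ∈ W ↔ g * x * g⁻¹ ∈ W))
    ?_ ?_ ?_ ?_ R g hR (mem_top g) hg hc
  · intro P P' g hP H hc x hx
    exact H (hc.trans (card_le_of_le hP)) x (hP hx)
  · intro P g k H1 H2 hc x hx
    rw [H1 hc x hx, H2 (by rwa [card_cj]) _ (cj_mem g hx)]
    simp only [mul_inv_rev, mul_assoc]
  · intro P g H hc x hx
    obtain ⟨y, hy, rfl⟩ := mem_cj'.1 hx
    rw [card_cj] at hc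
    rw [← H hc y hy]
    simp only [inv_inv, mul_assoc, inv_mul_cancel_left, inv_mul_cancel, mul_one]
  · intro U hU _ g _ hg hc
    have key : ∀ g ∈ 𝐍(U), ∀ x ∈ U, x ∈ W → g * x * g⁻¹ ∈ W := by
      intro g hg x hx hxW
      by_cases hUS : U = S
      · exact H69.conj_mem_of_mem_normalizer (h.normS ⟨trivial, hUS ▸ hg⟩) hxW
      · have hlt := lt_inf_normalizer_of_lt h.syl.isP (lt_of_le_of_ne hU.le hUS)
        refine hgood U hU.le ?_ (hc.trans_lt (card_lt_of_lt hlt)) x hxW (le_normalizer hx) g hg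
          (hU.le (H69.conj_mem_of_mem_normalizer hg hx))
        rintro rfl
        rw [card_bot] at hc
        omega
    intro x hx
    refine ⟨key g hg x hx, fun hxW => ?_⟩
    have := key g⁻¹ (inv_mem hg) _ (H69.conj_mem_of_mem_normalizer hg hx) hxW
    simpa only [inv_inv, mul_assoc, inv_mul_cancel_left, inv_mul_cancel, mul_one] using this

theorem sc_of_local {S W : Subgroup G} (h : Hyp p ⊤ S W) (hO : pCore p G = ⊥)
    (ih : ∀ X : Subgroup G, X ≠ ⊤ → ∀ T V, Hyp p X T V → SC X T V ∨ Concl μ X V)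
    (hn : ¬ Concl μ ⊤ W) : SC ⊤ S W := by
  by_cases hW0 : W = ⊥
  · subst hW0
    intro w hw g _ _
    rw [mem_bot.1 hw, mul_one, mul_inv_cancel]
    exact one_mem _
  have hall : ∀ (k : ℕ) (U : Subgroup G), U ≤ S → U ≠ ⊥ →
      Nat.card G - Nat.card (S ⊓ 𝐍(U) : Subgroup G) = k → Good S W U := by
    intro k
    induction k using Nat.strong_induction_on with
    | _ k IH =>
    intro U hU hU0 hk
    set T := S ⊓ 𝐍(U) with hTd
    have hUT : U ≤ T := le_inf hU le_normalizer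
    have hgood : ∀ U' ≤ S, U' ≠ ⊥ → Nat.card T < Nat.card (S ⊓ 𝐍(U') : Subgroup G) →
        Good S W U' := fun U' hU' hU'0 hlt => IH _ (by
      have := card_le_card_group (S ⊓ 𝐍(U'))
      omega) U' hU' hU'0 rfl
    have hm : 2 ≤ Nat.card T := ((one_lt_card_iff_ne_bot U).2 hU0).trans_le (card_le_of_le hUT)
    have hNU : 𝐍(U) ≠ ⊤ :=
      normalizer_ne_top_of_not_le (h.syl.isP.to_le hU) (by rwa [hO, le_bot_iff])
    have hTp : IsPGroup p T := h.syl.isP.to_le inf_le_left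
    by_cases hE : IsSylowIn p T 𝐍(U)
    swap
    · obtain ⟨g, -, hg, hgT⟩ := exists_extr' h.syl hU
      have hlt : Nat.card T < Nat.card (S ⊓ 𝐍(U ^ᶜ g) : Subgroup G) := by
        by_contra hle
        apply hE
        have h1 := hg.syl.cj g⁻¹
        rw [top_inf_eq, ← cj_normalizer, cj_cj_inv] at h1
        exact h1.of_card_le hTp inf_le_right (by rw [card_cj, cj_normalizer]; omega)
      have hG := hgood _ hg.le (fun e => hU0 (cj_eq_bot_iff.1 e)) hlt
      have hE' := engine h hm hgood (R := T) (g := g) inf_le_left (hgT.trans inf_le_left) le_rfl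
      intro w hw hwN k hk hkS
      have hwT : w ∈ T := ⟨h.le_S hw, hwN⟩
      have hkT : k * w * k⁻¹ ∈ T := mem_inf.2 ⟨hkS, mul_mem (mul_mem hk hwN) (inv_mem hk)⟩
      have e : g * k * g⁻¹ * (g * w * g⁻¹) * (g * k * g⁻¹)⁻¹ = g * (k * w * k⁻¹) * g⁻¹ := by group
      rw [hE' _ hkT, ← e]
      refine hG _ ((hE' w hwT).1 hw) (hgT (cj_mem g hwT)).2 _ (conj_mem_normalizer_cj g hk) ?_
      rw [e]
      exact (hgT (cj_mem g hkT)).1
    by_cases hTS : T = S
    · have hSU : S ≤ 𝐍(U) := hTS ▸ inf_le_right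
      rcases ih _ hNU S W (h.mono hSU le_top) with h1 | h1
      · exact fun w hw _ g hg => h1 w hw g hg
      · exact absurd (h1.mono le_top) hn
    have hlt : Nat.card T < Nat.card (S ⊓ 𝐍(T) : Subgroup G) :=
      card_lt_of_lt (lt_inf_normalizer_of_lt h.syl.isP (lt_of_le_of_ne inf_le_left hTS))
    have hT0 : T ≠ ⊥ := fun e => hU0 (le_bot_iff.1 (e ▸ hUT))
    set W₁ := W ⊓ centerThompsonAOf T with hW₁
    have hW₁0 : W₁ ≠ ⊥ := by
      refine fun e => H69.inf_centralizer_ne_bot (h.syl.isP.to_le h.le_S) h.syl.isP h.S_le hW0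
        (le_bot_iff.1 (e ▸ le_inf inf_le_left (le_trans ?_ (center_le_centerThompsonAOf T))))
      refine le_inf (le_inf (inf_le_left.trans h.le_S) (inf_le_right.trans ?_))
        (inf_le_right.trans (H69.centralizer_anti inf_le_left))
      exact le_normalizer_of_le_centralizer (H69.centralizer_anti hU)
    have hZT : centerThompsonAOf T ≤ S :=
      (H25.ZJ.centerThompsonAOf_le_self T).trans inf_le_left
    have hGJ : Good S W (thompsonSubgroupAOf T) :=
      hgood _ ((thompsonSubgroupAOf_le T).trans inf_le_left) (thompsonSubgroupAOf_ne_bot hT0)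
        (hlt.trans_le (card_le_of_le (inf_le_inf_left S
          (normalizer_le_normalizer_thompsonSubgroupAOf T))))
    have hlt₁ : Nat.card T < Nat.card (S ⊓ 𝐍(W₁) : Subgroup G) :=
      hlt.trans_le (card_le_of_le (le_inf inf_le_left (le_normalizer_inf (inf_le_left.trans h.S_le)
        (inf_le_right.trans (H25.ZJ.normalizer_le_normalizer_centerThompsonAOf T)))))
    have hW₁S : W₁ ≤ S := inf_le_left.trans h.le_S
    have hWW₁ : W ≤ 𝐍(W₁) :=
      le_normalizer_of_le_centralizer (h.ab.trans (H69.centralizer_anti inf_le_left))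
    have h₁ : Hyp p 𝐍(U) T W₁ := by
      refine ⟨hE, inf_le_right, le_normalizer_of_cj_le fun g hg z hz => ?_⟩
      obtain ⟨w, hw, rfl⟩ := mem_cj'.1 hz
      have h2 : g * w * g⁻¹ ∈ centerThompsonAOf T := H69.conj_mem_of_mem_normalizer
        (normalizer_thompsonA_le_normalizer_centerThompsonAOf T hg.2) hw.2
      exact ⟨hGJ w hw.1 (le_normalizer hw.2.1) g hg.2 (hZT h2), h2⟩
    rcases ih _ hNU T W₁ h₁ with h2 | ⟨⟨k, hk, he⟩, hΦ⟩
    · have hF := h₁.fus h2
      have hG₁ := hgood W₁ hW₁S hW₁0 hlt₁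
      intro w hw hwN g hg hgS
      obtain ⟨x, hx, ex⟩ := hF (zpowers w) g (zpowers_le.2 ⟨h.le_S hw, hwN⟩) hg (by
        rw [cj_zpowers]
        exact zpowers_le.2 (mem_inf.2 ⟨hgS, mul_mem (mul_mem hg hwN) (inv_mem hg)⟩))
      rw [← ex w (mem_zpowers w)] at hgS ⊢
      exact hG₁ w hw (hWW₁ hw) x hx.2 hgS
    · exfalso
      obtain ⟨g, -, hg, hgT⟩ := exists_extr' h.syl hW₁S
      have hE' := engine h hm hgood (R := S ⊓ 𝐍(W₁)) (g := g) inf_le_left
        (hgT.trans inf_le_left) hlt₁.le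
      have hgW : g ∈ 𝐍(W) := mem_normalizer_of_cj_le fun z hz => by
        obtain ⟨w, hw, rfl⟩ := mem_cj'.1 hz
        exact (hE' w ⟨h.le_S hw, hWW₁ hw⟩).1 hw
      have hW₂ : W₁ ^ᶜ g ≤ W := cj_le_of_mem_normalizer inf_le_left hgW
      have hWW₂ : W ≤ 𝐍(W₁ ^ᶜ g) :=
        le_normalizer_of_le_centralizer (h.ab.trans (H69.centralizer_anti hW₂))
      have hG₂ := hgood _ hg.le (fun e => hW₁0 (cj_eq_bot_iff.1 e))
        (hlt₁.trans_le ((card_cj _ g).ge.trans (card_le_of_le hgT)))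
      have hsyl := hg.syl
      rw [top_inf_eq] at hsyl
      refine hn ((concl_of_sc hsyl h.ab (le_inf h.le_S hWW₂)
        (fun w hw x hx hxS => hG₂ w hw (hWW₂ hw) x hx hxS.1) hW₂
        (conj_mem_normalizer_cj g hk.2) (he.cj g) ?_).mono le_top)
      rw [← cj_normalizer]
      exact (hΦ.mono inf_le_right).cj g
  intro w hw g _ hgS
  by_cases hw1 : w = 1
  · rw [hw1, mul_one, mul_inv_cancel]
    exact one_mem _
  refine (engine h le_rfl (fun U hU hU0 _ => hall _ U hU hU0 rfl) (R := zpowers w) (g := g)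
    (zpowers_le.2 (h.le_S hw)) (by rw [cj_zpowers]; exact zpowers_le.2 hgS)
    ((one_lt_card_iff_ne_bot _).2 (by simpa using hw1)) w (mem_zpowers w)).1 hw

end H59.ZF
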