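import Mathlib
import Cfsg.Agent.Base
import Cfsg.Agent.Lib.ZJF59.Local

/-!
A subgroup `W ≤ Z(J(S))` normalized by `N(J(S))` is strongly closed, or has an eigenvector for a
primitive root and `F(p)` is involved in `N(W)`.
-/

set_option autoImplicit false

namespace H59.ZF

open Subgroup Cfsg H69 H59 H24
open scoped commutatorElement

universe u

variable {p : ℕ} {G : Type*} [Group G] [Finite G] [hp : Fact p.Prime] {μ : ZMod p}

/-- The statement proved by induction. -/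
def Sig (μ : ZMod p) (G : Type*) [Group G] : Prop :=
  ∀ S W : Subgroup G, Hyp p ⊤ S W → SC ⊤ S W ∨ Concl μ ⊤ W

theorem eqns_sig : True := by
  have := @Sig.eq_1.{0}
  trivial

omit [Finite G] hp in
theorem Sig.sub {L : Subgroup G} (h : Sig μ L) (S W : Subgroup G) (hy : Hyp p L S W) :
    SC L S W ∨ Concl μ L W := by
  have mS := map_subgroupOf_eq_of_le hy.syl.le
  have mW := map_subgroupOf_eq_of_le (hy.le_S.trans hy.syl.le)
  rcases h (S.subgroupOf L) (W.subgroupOf L) ⟨hy.syl.subgroupOf_top, by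
      rw [← map_subtype_le_iff, map_centerThompsonAOf L.subtype_injective, mS, mW]
      exact hy.le, by
      rw [top_inf_eq, ← map_subtype_le_iff, map_subtype_normalizer, map_subtype_normalizer,
        map_thompsonSubgroupAOf L.subtype_injective, mS, mW]
      exact le_inf inf_le_left hy.norm⟩ with h1 | ⟨⟨k, hk, he⟩, hΦ⟩
  · exact Or.inl fun w hw g hg hgS =>
      h1 ⟨w, hy.syl.le (hy.le_S hw)⟩ hw ⟨g, hg⟩ trivial hgS
  · have he' := he.map L.subtype L.subtype_injective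
    have hΦ' := hΦ.map L.subtype L.subtype_injective
    have hk' := mem_map_of_mem L.subtype hk
    rw [top_inf_eq, map_subtype_normalizer, mW] at hΦ' hk'
    rw [mW] at he'
    exact Or.inr ⟨⟨k, hk', he'⟩, hΦ'⟩

theorem sig_coprime {K S W : Subgroup G} [K.Normal] (hK : (Nat.card K).Coprime p)
    (h : Hyp p ⊤ S W) (ih : Sig μ (G ⧸ K)) : SC ⊤ S W ∨ Concl μ ⊤ W := by
  have hd := ker_mk'_inf_eq_bot hK h.syl.isP
  have hNW := map_mk'_normalizer_of_isPGroup hK (h.syl.isP.to_le h.le_S)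
  rcases ih (S.map (QuotientGroup.mk' K)) (W.map (QuotientGroup.mk' K))
    ⟨isSylowIn_map_top h.syl (QuotientGroup.mk'_surjective K), by
      rw [← map_centerThompsonAOf_of_disjoint hd]
      exact map_mono h.le, by
      rw [top_inf_eq, ← map_thompsonSubgroupAOf_of_disjoint hd, ← hNW,
        ← map_mk'_normalizer_of_isPGroup hK (h.syl.isP.to_le (thompsonSubgroupAOf_le S))]
      exact map_mono ((le_inf le_top le_rfl).trans h.norm)⟩ with h1 | ⟨⟨k, hk, he⟩, hΦ⟩
  · refine Or.inl fun w hw g _ hgS => ?_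
    obtain ⟨w', hw', e⟩ := h1 _ (mem_map_of_mem _ hw) (QuotientGroup.mk' K g) trivial (by
      rw [← map_inv, ← map_mul, ← map_mul]
      exact mem_map_of_mem _ hgS)
    rw [← map_inv, ← map_mul, ← map_mul, ← mul_inv_eq_one, ← map_inv, ← map_mul] at e
    have h2 : w' * (g * w * g⁻¹)⁻¹ ∈ (QuotientGroup.mk' K).ker ⊓ S :=
      mem_inf.2 ⟨e, mul_mem (h.le_S hw') (inv_mem hgS)⟩
    rw [hd, mem_bot, mul_inv_eq_one] at h2
    exact h2 ▸ hw'
  · rw [top_inf_eq, ← hNW] at hk hΦ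
    obtain ⟨k, hk, rfl⟩ := hk
    exact Or.inr ⟨⟨k, ⟨trivial, hk⟩, he.comap h.ab hk _⟩, (hΦ.comap _).mono (le_inf le_top le_rfl)⟩

theorem sc_of_factor {K S W : Subgroup G} [K.Normal] (h : Hyp p ⊤ S W) (hC : 𝐂(S ⊓ K) ≤ K)
    (h1 : SC 𝐍(S ⊓ K) S W) (h2 : SC (S ⊔ K) S W) : SC ⊤ S W := by
  have hSN : S ≤ 𝐍(S ⊓ K) := le_normalizer_inf le_normalizer le_normalizer_of_normal
  have hF := (h.mono hSN le_top).fus h1
  intro w hw g _ hgS
  obtain ⟨k, hk, a, ha, rfl⟩ := (h.syl.inf_normal le_top le_normalizer_of_normal).frattini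
    (le_normalizer_of_normal (mem_top g) : g ∈ 𝐍(K))
  obtain ⟨x, hx, ex⟩ := hF (S ⊓ K) a inf_le_left ha
    ((cj_eq_of_mem_normalizer ha).le.trans inf_le_left)
  have h3 : k * a * x⁻¹ ∈ K := by
    have := ‹K.Normal›.conj_mem _ (hC (agree_iff.1 ex.symm)) x
    rw [show x * (x⁻¹ * a) * x⁻¹ = a * x⁻¹ by group] at this
    rw [mul_assoc]
    exact mul_mem hk this
  have e : k * a * w * (k * a)⁻¹ = k * a * x⁻¹ * (x * w * x⁻¹) * (k * a * x⁻¹)⁻¹ := by group
  rw [e] at hgS ⊢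
  exact h2 _ (H69.conj_mem_of_mem_normalizer hx.2 hw) _ (mem_sup_right h3) hgS

theorem sig_central {S W : Subgroup G} (h : Hyp p ⊤ S W) (hCS : S ⊔ 𝐂(pCore p G) = ⊤)
    (good : ∀ X, S ≤ X → X ≠ ⊤ → SC X S W) (ih : Sig μ (G ⧸ pCore p G)) :
    SC ⊤ S W ∨ Concl μ ⊤ W := by
  set Q := pCore p G with hQd
  have hQS : Q ≤ S := pCore_le_of_sylow h.syl
  by_cases hWQ : W ≤ Q
  · have h1 : ⊤ ≤ 𝐍(W) := hCS ▸ sup_le h.S_le
      (le_normalizer_of_le_centralizer (H69.centralizer_anti hWQ))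
    exact Or.inl fun w hw g hg _ => H69.conj_mem_of_mem_normalizer (h1 hg) hw
  set π := QuotientGroup.mk' Q with hπ
  have hsurj : Function.Surjective π := QuotientGroup.mk'_surjective Q
  have hker : π.ker = Q := QuotientGroup.ker_mk' Q
  have hS' : IsSylowIn p (S.map π) ⊤ := isSylowIn_map_top h.syl hsurj
  have hcS : (S.map π).comap π = S := comap_map_eq_self (hker.le.trans hQS)
  have hSW : S.map π ≤ 𝐍(W.map π) := by
    rintro _ ⟨s, hs, rfl⟩
    exact map_mem_normalizer_map π (h.S_le hs)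
  -- normalizers of preimages of nontrivial subgroups are proper
  have hpro : ∀ V ≤ S.map π, V ≠ ⊥ → S.map π ≤ 𝐍(V) →
      S ≤ 𝐍(V).comap π ∧ SC (𝐍(V).comap π) S W := fun V hV hV0 hVn => by
    refine ⟨map_le_iff_le_comap.1 hVn, good _ (map_le_iff_le_comap.1 hVn) fun e => ?_⟩
    refine normalizer_ne_top_of_not_le (hS'.isP.to_le hV) ?_
      (comap_injective hsurj (e.trans (comap_top π).symm))
    rwa [H1.pCore_quotient_pCore, le_bot_iff]
  set W₁ := W.map π ⊓ centerThompsonAOf (S.map π) with hW₁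
  have hW₁S : W₁ ≤ S.map π := inf_le_left.trans (map_mono h.le_S)
  have hW₁0 : W₁ ≠ ⊥ := by
    refine fun e => H69.inf_centralizer_ne_bot (hS'.isP.to_le (map_mono h.le_S)) hS'.isP hSW
      (fun e => hWQ (hker ▸ (map_eq_bot_iff W).1 e))
      (le_bot_iff.1 (e ▸ le_inf inf_le_left (le_trans ?_ (center_le_centerThompsonAOf _))))
    exact inf_le_inf_right _ (map_mono h.le_S)
  obtain ⟨-, hJ⟩ := hpro (thompsonSubgroupAOf (S.map π)) (thompsonSubgroupAOf_le _)
    (fun e => hW₁0 (le_bot_iff.1 (e ▸ inf_le_right.trans inf_le_left)))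
    (le_normalizer.trans (normalizer_le_normalizer_thompsonSubgroupAOf _))
  obtain ⟨hSN, hN⟩ := hpro W₁ hW₁S hW₁0 (le_normalizer_inf hSW
    (le_normalizer.trans (H25.ZJ.normalizer_le_normalizer_centerThompsonAOf _)))
  have hF := (h.mono hSN le_top).fus hN
  have h₁ : Hyp p ⊤ (S.map π) W₁ := by
    refine ⟨hS', inf_le_right, le_normalizer_of_cj_le fun g hg z hz => ?_⟩
    obtain ⟨_, ⟨⟨w, hw, rfl⟩, hw'⟩, rfl⟩ := mem_cj'.1 hz
    obtain ⟨g, rfl⟩ := hsurj g
    have h2 : π g * π w * (π g)⁻¹ ∈ centerThompsonAOf (S.map π) :=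
      H69.conj_mem_of_mem_normalizer
        (normalizer_thompsonA_le_normalizer_centerThompsonAOf _ hg.2) hw'
    refine mem_inf.2 ⟨?_, h2⟩
    rw [← map_inv, ← map_mul, ← map_mul] at h2 ⊢
    exact mem_map_of_mem π (hJ w hw g hg.2
      (hcS.le (mem_comap.2 (H25.ZJ.centerThompsonAOf_le_self _ h2))))
  rcases ih _ _ h₁ with h2 | ⟨⟨k, hk, he⟩, hΦ⟩
  swap
  · obtain ⟨k, rfl⟩ := hsurj k
    have hk' : k ∈ 𝐍(W₁.comap π) := by
      rw [← cj_eq_self_iff, comap_cj, cj_eq_of_mem_normalizer hk.2]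
    have hle : W₁.comap π ≤ S := hcS ▸ comap_mono hW₁S
    obtain ⟨x, hx, ex⟩ := hF (W₁.comap π) k hle hk.2 ((cj_eq_of_mem_normalizer hk').le.trans hle)
    refine Or.inr ⟨⟨x, ⟨trivial, hx.2⟩, Eig.comap h.ab hx.2 π ?_⟩, ?_⟩
    · obtain ⟨c, hc, hne, e⟩ := he
      obtain ⟨c, rfl⟩ := hsurj c
      refine ⟨π c, hc.1, hne, ?_⟩
      rw [← e, ← map_inv, ← map_mul, ← map_mul, ex c hc, map_mul, map_mul, map_inv]
    · have h3 : Phi μ (𝐍(W₁).comap π) := by
        refine Phi.comap π ?_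
        rw [map_comap_eq_self_of_surjective hsurj]
        exact hΦ.mono inf_le_right
      exact (h3.fus (h.syl.mono hSN le_top) h.S_le hF).mono (inf_le_inf_right _ le_top)
  have hF' := h₁.fus h2
  have key := alperin_extr h.syl (fun P g => ∀ x ∈ P, (x ∈ W ↔ g * x * g⁻¹ ∈ W))
    (fun P P' g hP H x hx => H x (hP hx)) (fun P g k H1 H2 x hx => by
      rw [H1 x hx, H2 _ (cj_mem g hx)]
      simp only [mul_inv_rev, mul_assoc]) (fun P g H x hx => by
      obtain ⟨y, hy, rfl⟩ := mem_cj'.1 hx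
      rw [← H y hy]
      simp only [inv_inv, mul_assoc, inv_mul_cancel_left, inv_mul_cancel, mul_one]) ?_
  · exact Or.inl fun w hw g _ hgS => (key (zpowers w) g (zpowers_le.2 (h.le_S hw)) trivial
      (by rw [cj_zpowers]; exact zpowers_le.2 hgS) w (mem_zpowers w)).1 hw
  intro U hU IH g _ hg
  by_cases hQU : Q ≤ U
  swap
  · refine fun x hx => IH (U ⊔ Q) g (sup_le hU.le hQS) (mem_top _) ?_ (card_lt_of_lt ?_) x
      (mem_sup_left hx)
    · rw [cj_sup, cj_eq_of_mem_normalizer hg, cj_eq_of_normal]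
      exact sup_le hU.le hQS
    · exact lt_of_le_of_ne le_sup_left fun e => hQU (e ▸ le_sup_right)
  have hsyl : IsSylowIn p (S ⊓ 𝐍(U)) 𝐍(U) := by simpa using hU.syl
  have hcU : (U.map π).comap π = U := comap_map_eq_self (hker.le.trans hQU)
  have key2 : ∀ g ∈ 𝐍(U), ∀ x ∈ U, x ∈ W → g * x * g⁻¹ ∈ W := by
    intro g hg x hx hxW
    obtain ⟨n, hn, en⟩ := hF' (U.map π) (π g) (map_mono hU.le) trivial (by
      rw [← map_cj, cj_eq_of_mem_normalizer hg]
      exact map_mono hU.le)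
    obtain ⟨n, rfl⟩ := hsurj n
    have hnU : n ∈ 𝐍(U) := by
      rw [← cj_eq_self_iff, ← hcU, comap_cj, en.cj_eq, ← map_cj, cj_eq_of_mem_normalizer hg]
    let D := 𝐍(U) ⊓ (𝐂(U.map π)).comap π
    have hDn : 𝐍(U) ≤ 𝐍(D) := by
      refine le_normalizer_inf le_normalizer fun y hy => ?_
      rw [← cj_eq_self_iff, comap_cj, cj_centralizer, ← map_cj, cj_eq_of_mem_normalizer hy]
    have hd : n⁻¹ * g ∈ D := by
      refine mem_inf.2 ⟨mul_mem (inv_mem hnU) hg, ?_⟩
      change π (n⁻¹ * g) ∈ 𝐂(U.map π)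
      rw [map_mul, map_inv]
      exact agree_iff.1 en.symm
    obtain ⟨t, ht, c, hc, e⟩ := exists_sylow_mul_centralizer
      (hsyl.inf_normal inf_le_left hDn) inf_le_left (U := U) (fun y hy hyp => by
        refine mem_centralizer_of_coprime (Q := Q) H1.isPGroup_pCore hyp ?_ fun u hu => ?_
        · have h7 : 𝐑(p, 𝐂(Q) ⊔ S) ≤ 𝐂(Q) := res_sup_le h.syl.isP le_normalizer_of_normal
          rw [sup_comm, hCS] at h7
          exact h7 (mem_res (mem_top y) hyp)
        · rw [← hker, MonoidHom.mem_ker, map_commutatorElement,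
            commutatorElement_eq_one_iff_mul_comm]
          exact (mem_centralizer_iff_commute.1 hy.2 _ ⟨u, hu, rfl⟩).symm) hd
    have e' : g * x * g⁻¹ = n * t * x * (n * t)⁻¹ := by
      rw [inv_mul_eq_iff_eq_mul.1 e]
      calc n * (t * c) * x * (n * (t * c))⁻¹ = n * t * (c * x * c⁻¹) * (n * t)⁻¹ := by group
        _ = _ := by rw [conj_eq_of_mem_centralizer hc hx]
    have hS := hU.le (H69.conj_mem_of_mem_normalizer hg hx)
    rw [e'] at hS ⊢
    exact hN x hxW _ (mul_mem hn.2 (hSN ht.1.1)) hS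
  intro x hx
  refine ⟨key2 g hg x hx, fun hxW => ?_⟩
  have := key2 g⁻¹ (inv_mem hg) _ (H69.conj_mem_of_mem_normalizer hg hx) hxW
  simpa only [inv_inv, mul_assoc, inv_mul_cancel_left, inv_mul_cancel, mul_one] using this

theorem sig_aux (hp2 : p ≠ 2) (h0 : μ ≠ 0) (n : ℕ) :
    ∀ (G : Type u) [Group G] [Finite G], Nat.card G = n → Sig μ G := by
  induction n using Nat.strong_induction_on with
  | _ n ih =>
  intro G _ _ hn S W h
  have hsub : ∀ X : Subgroup G, X ≠ ⊤ → ∀ T V, Hyp p X T V → SC X T V ∨ Concl μ X V :=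
    fun X hX => (ih _ (hn ▸ card_subgroup_lt hX) X rfl).sub
  by_cases hc : Concl μ ⊤ W
  · exact Or.inr hc
  have good : ∀ X, S ≤ X → X ≠ ⊤ → SC X S W := fun X h1 h2 =>
    (hsub X h2 S W (h.mono h1 le_top)).resolve_right fun e => hc (e.mono le_top)
  by_cases hK : pPrimeCore p G = ⊥
  swap
  · exact sig_coprime H1.coprime_card_pPrimeCore h (ih _ (hn ▸ card_quotient_lt hK) _ rfl)
  by_cases hQ : pCore p G = ⊥
  · exact Or.inl (sc_of_local h hQ hsub hc)
  have hQS : pCore p G ≤ S := pCore_le_of_sylow h.syl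
  by_cases hC : S ⊓ 𝐂(pCore p G) ≤ pCore p G
  · have hC' : 𝐂(pCore p G) ≤ pCore p G := by
      have := centralizer_le_sup_pPrimeCore h.syl hC
      rwa [hK, sup_bot_eq] at this
    by_cases hW : W.Normal
    · exact Or.inl fun w hw g _ _ => hW.conj_mem w hw g
    refine Or.inr (concl_of_charP hp2 h0 h hC' (fun X h1 h2 g hg => ?_) hW)
    obtain ⟨x, hx, ex⟩ := (h.mono h1 le_top).fus (good X h1 h2) (pCore p G) g hQS hg
      ((cj_eq_of_normal _ g).le.trans hQS)
    have := mul_mem hx.2 (h.S_le (hQS (hC' (agree_iff.1 ex.symm))))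
    rwa [mul_inv_cancel_left] at this
  by_cases hCS : S ⊔ 𝐂(pCore p G) = ⊤
  · exact sig_central h hCS good (ih _ (hn ▸ card_quotient_lt hQ) _ rfl)
  refine Or.inl (sc_of_factor (K := pCore p G ⊔ 𝐂(pCore p G)) h
    ((H69.centralizer_anti (le_inf hQS le_sup_left)).trans le_sup_right)
    (good _ (le_normalizer_inf le_normalizer le_normalizer_of_normal)
      (normalizer_ne_top_of_not_le (h.syl.isP.to_le inf_le_left)
        fun e => hC ((inf_le_inf_left S le_sup_right).trans e)))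
    (good _ le_sup_left ?_))
  rwa [← sup_assoc, sup_eq_left.2 hQS]

theorem sig (hp2 : p ≠ 2) (h0 : μ ≠ 0) {L S W : Subgroup G} (h : Hyp p L S W) :
    SC L S W ∨ Concl μ L W :=
  (sig_aux hp2 h0 _ L rfl).sub S W h

end H59.ZF
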